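import Mathlib.AlgebraicGeometry.Limits
import Mathlib.AlgebraicTopology.AlternatingFaceMapComplex
import Mathlib.Algebra.Category.Grp.Abelian

/-!
# Contravariant systems on the fibre powers of a map with a section
-/

set_option autoImplicit false
set_option backward.isDefEq.respectTransparency.types false

universe u

open CategoryTheory CategoryTheory.Limits AlgebraicGeometry Opposite Simplicial

noncomputable section

namespace Groth.L00.EtSection

/-- A contravariant system of groups on schemes over `Y`. -/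
structure Sys (Y : Scheme.{u}) where
  /-- the groups -/
  obj : ∀ {A : Scheme.{u}}, (A ⟶ Y) → AddCommGrpCat.{u + 1}
  /-- the pullbacks -/
  map : ∀ {A B : Scheme.{u}} (g : A ⟶ B) (b : B ⟶ Y) (a : A ⟶ Y), g ≫ b = a → (obj b →+ obj a)
  map_comp : ∀ {A B C : Scheme.{u}} (h : C ⟶ A) (g : A ⟶ B) (b : B ⟶ Y) (a : A ⟶ Y) (c : C ⟶ Y)
    (wg : g ≫ b = a) (wh : h ≫ a = c) (k : C ⟶ B) (_ : h ≫ g = k) (w : k ≫ b = c) (e : obj b),
    map h a c wh (map g b a wg e) = map k b c w e
  map_id : ∀ {A : Scheme.{u}} (a : A ⟶ Y) (w : 𝟙 A ≫ a = a) (e : obj a), map (𝟙 A) a a w e = e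

theorem Sys.congr {Y : Scheme.{u}} (S : Sys Y) {A B : Scheme.{u}} {g g' : A ⟶ B} (h : g = g') (b : B ⟶ Y) (a : A ⟶ Y)
    (w : g ≫ b = a) (w' : g' ≫ b = a) (e : S.obj b) : S.map g b a w e = S.map g' b a w' e := by
  subst h
  rfl

variable {X Y : Scheme.{u}} (S : Sys Y)

variable (f : X ⟶ Y)

/-- The fibre powers. -/
abbrev W (m : ℕ) : Scheme.{u} := widePullback Y (fun _ : Fin (m + 1) => X) (fun _ => f)

/-- Their maps to the base. -/
abbrev base (m : ℕ) : W f m ⟶ Y := WidePullback.base (fun _ : Fin (m + 1) => f)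

/-- Their projections. -/
abbrev proj (m : ℕ) (i : Fin (m + 1)) : W f m ⟶ X := WidePullback.π (fun _ : Fin (m + 1) => f) i

/-- The map of fibre powers of a map of indices. -/
def face {m n : ℕ} (θ : Fin (m + 1) → Fin (n + 1)) : W f n ⟶ W f m :=
  WidePullback.lift (base f n) (fun i => proj f n (θ i)) fun i => WidePullback.π_arrow _ (θ i)

theorem face_base {m n : ℕ} (θ : Fin (m + 1) → Fin (n + 1)) : face f θ ≫ base f m = base f n :=
  limit.lift_π _ _

theorem face_proj {m n : ℕ} (θ : Fin (m + 1) → Fin (n + 1)) (i : Fin (m + 1)) :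
    face f θ ≫ proj f m i = proj f n (θ i) :=
  limit.lift_π _ _

theorem W_ext {T : Scheme.{u}} {m : ℕ} {g₁ g₂ : T ⟶ W f m} (hb : g₁ ≫ base f m = g₂ ≫ base f m)
    (hp : ∀ i, g₁ ≫ proj f m i = g₂ ≫ proj f m i) : g₁ = g₂ :=
  WidePullback.hom_ext _ _ _ hp hb

/-- The cohomology of the fibre powers. -/
abbrev HW (m : ℕ) : AddCommGrpCat.{u + 1} :=
  S.obj (base f m)

/-- The cosimplicial group of cohomology of the fibre powers. -/
def cosimp : CosimplicialObject AddCommGrpCat.{u + 1} where
  obj m := HW S f m.len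
  map {m n} θ := AddCommGrpCat.ofHom (S.map (face f θ.toOrderHom) (base f m.len) (base f n.len)
    (face_base f _))
  map_id m := by
    ext e
    refine (S.congr ?_ _ _ _ (Category.id_comp _) e).trans (S.map_id _ _ e)
    exact W_ext f (by rw [face_base, Category.id_comp]) fun i => by rw [face_proj, Category.id_comp]; rfl
  map_comp {l m n} θ η := by
    ext e
    refine Eq.symm ((S.map_comp (face f η.toOrderHom) (face f θ.toOrderHom) _ _ _ (face_base f _) (face_base f _)
      (face f (θ ≫ η).toOrderHom) ?_ (face_base f _) e))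
    exact W_ext f (by rw [Category.assoc, face_base, face_base, face_base]) fun i => by
      rw [Category.assoc, face_proj, face_proj, face_proj]; rfl

/-- The complex. -/
def cx : CochainComplex AddCommGrpCat.{u + 1} ℕ :=
  (AlgebraicTopology.alternatingCofaceMapComplex _).obj (cosimp S f)

theorem cx_d (m : ℕ) (e : HW S f m) :
    (cx S f).d m (m + 1) e =
      ∑ i : Fin (m + 2), (-1 : ℤ) ^ (i : ℕ) • S.map (face f i.succAbove) (base f m) (base f (m + 1))
        (face_base f _) e := by
  have h : (cx S f).d m (m + 1) = AlgebraicTopology.AlternatingCofaceMapComplex.objD (cosimp S f) m :=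
    CochainComplex.of_d (X := fun n => (cosimp S f).obj ⦋n⦌)
      (d := AlgebraicTopology.AlternatingCofaceMapComplex.objD (cosimp S f)) m
  rw [h, AlgebraicTopology.AlternatingCofaceMapComplex.objD]
  let ev : (HW S f m ⟶ HW S f (m + 1)) →+ HW S f (m + 1) :=
    { toFun := fun g => g e
      map_zero' := rfl
      map_add' := fun _ _ => rfl }
  show ev (∑ i : Fin (m + 2), (-1 : ℤ) ^ (i : ℕ) • (cosimp S f).δ i) = _
  rw [map_sum]
  refine Finset.sum_congr rfl fun i _ => ?_
  exact map_zsmul ev _ _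

variable (s : Y ⟶ X) (hs : s ≫ f = 𝟙 Y)

/-- Insertion of the section. -/
def ins (m : ℕ) : W f m ⟶ W f (m + 1) :=
  WidePullback.lift (base f m) (Fin.cases (base f m ≫ s) (proj f m)) (Fin.cases
    (show (base f m ≫ s) ≫ f = base f m by rw [Category.assoc, hs, Category.comp_id])
    fun i => WidePullback.π_arrow _ i)

theorem ins_base (m : ℕ) : ins f s hs m ≫ base f (m + 1) = base f m :=
  limit.lift_π _ _

theorem ins_proj_zero (m : ℕ) : ins f s hs m ≫ proj f (m + 1) 0 = base f m ≫ s :=
  limit.lift_π _ _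

theorem ins_proj_succ (m : ℕ) (i : Fin (m + 1)) : ins f s hs m ≫ proj f (m + 1) i.succ = proj f m i :=
  limit.lift_π _ _

/-- The section as a map to the first power. -/
def sect : Y ⟶ W f 0 := WidePullback.lift (𝟙 Y) (fun _ => s) fun _ => hs

theorem sect_base : sect f s hs ≫ base f 0 = 𝟙 Y :=
  limit.lift_π _ _

theorem sect_proj (i : Fin 1) : sect f s hs ≫ proj f 0 i = s :=
  limit.lift_π _ _

theorem ins_face_zero (m : ℕ) : ins f s hs m ≫ face f (Fin.succAbove 0) = 𝟙 _ :=
  W_ext f (by rw [Category.assoc, face_base, ins_base, Category.id_comp]) fun i => by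
    rw [Category.assoc, face_proj, Fin.zero_succAbove, ins_proj_succ, Category.id_comp]

theorem ins_face_succ (m : ℕ) (j : Fin (m + 2)) :
    ins f s hs (m + 1) ≫ face f (Fin.succAbove j.succ) = face f (Fin.succAbove j) ≫ ins f s hs m :=
  W_ext f (by simp only [Category.assoc, face_base, ins_base]) fun i => by
    refine Fin.cases ?_ (fun l => ?_) i
    · rw [Category.assoc, Category.assoc, face_proj, Fin.succ_succAbove_zero, ins_proj_zero, ins_proj_zero,
        ← Category.assoc, face_base]
    · rw [Category.assoc, Category.assoc, face_proj, Fin.succ_succAbove_succ, ins_proj_succ, ins_proj_succ, face_proj]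

theorem ins_face_one : ins f s hs 0 ≫ face f (Fin.succAbove (1 : Fin 2)) = base f 0 ≫ sect f s hs :=
  W_ext f (by rw [Category.assoc, Category.assoc, face_base, ins_base, sect_base, Category.comp_id]) fun i => by
    obtain rfl : i = 0 := Subsingleton.elim (α := Fin 1) _ _
    rw [Category.assoc, face_proj, show Fin.succAbove (1 : Fin 2) (0 : Fin 1) = 0 from rfl, ins_proj_zero,
      Category.assoc, sect_proj]

/-- The augmentation. -/
def aug : S.obj (𝟙 Y) →+ HW S f 0 :=
  S.map (base f 0) (𝟙 Y) (base f 0) (Category.comp_id _)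

include s hs in
theorem aug_injective : Function.Injective (aug S f) := by
  intro a b hab
  have h := congrArg (S.map (sect f s hs) (base f 0) (𝟙 Y) (sect_base f s hs)) hab
  simp only [aug] at h
  rwa [S.map_comp _ _ _ _ _ _ _ (𝟙 Y) (sect_base f s hs) (Category.id_comp _), S.map_id,
    S.map_comp _ _ _ _ _ _ _ (𝟙 Y) (sect_base f s hs) (Category.id_comp _), S.map_id] at h

theorem aug_d (a : S.obj (𝟙 Y)) : (cx S f).d 0 1 (aug S f a) = 0 := by
  rw [cx_d, Fin.sum_univ_two]
  simp only [aug]
  rw [S.map_comp (face f (Fin.succAbove (0 : Fin 2))) (base f 0) _ _ _ _ _ (base f 1) (face_base f _) (Category.comp_id _),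
    S.map_comp (face f (Fin.succAbove (1 : Fin 2))) (base f 0) _ _ _ _ _ (base f 1) (face_base f _) (Category.comp_id _)]
  simp
  rfl

include s hs in
theorem exists_of_d_zero (m : ℕ) (x : HW S f (m + 1)) (hx : (cx S f).d (m + 1) (m + 2) x = 0) :
    ∃ y : HW S f m, (cx S f).d m (m + 1) y = x := by
  refine ⟨S.map (ins f s hs m) (base f (m + 1)) (base f m) (ins_base f s hs m) x, ?_⟩
  have hx' : (∑ i : Fin (m + 3), (-1 : ℤ) ^ (i : ℕ) • S.map (face f i.succAbove) (base f (m + 1)) (base f (m + 2))
      (face_base f _) x) = (0 : HW S f (m + 2)) :=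
    (cx_d S f (m + 1) x).symm.trans hx
  have h := congrArg (S.map (ins f s hs (m + 1)) (base f (m + 2)) (base f (m + 1)) (ins_base f s hs (m + 1))) hx'
  rw [map_sum, Fin.sum_univ_succ, map_zero] at h
  rw [map_zsmul, Fin.val_zero, pow_zero, one_smul,
    S.map_comp _ _ _ _ _ _ _ (𝟙 _) (ins_face_zero f s hs (m + 1)) (Category.id_comp _), S.map_id] at h
  rw [cx_d, eq_comm]
  refine (add_eq_zero_iff_eq_neg.1 h).trans ?_
  rw [← Finset.sum_neg_distrib]
  refine Finset.sum_congr rfl fun i _ => ?_
  rw [map_zsmul, Fin.val_succ, pow_succ, mul_neg_one, neg_smul, neg_neg]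
  refine congrArg _ ?_
  rw [S.map_comp (ins f s hs (m + 1)) (face f i.succ.succAbove) _ _ _ _ _ (face f i.succAbove ≫ ins f s hs m)
      (ins_face_succ f s hs m i) (by rw [Category.assoc, ins_base, face_base]),
    S.map_comp (face f i.succAbove) (ins f s hs m) _ _ _ _ _ (face f i.succAbove ≫ ins f s hs m)
      rfl (by rw [Category.assoc, ins_base, face_base])]

include hs in
theorem exists_aug_of_d_zero (x : HW S f 0) (hx : (cx S f).d 0 1 x = 0) :
    ∃ a : S.obj (𝟙 Y), aug S f a = x := by
  refine ⟨S.map (sect f s hs) (base f 0) (𝟙 Y) (sect_base f s hs) x, ?_⟩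
  have hx' : (∑ i : Fin 2, (-1 : ℤ) ^ (i : ℕ) • S.map (face f i.succAbove) (base f 0) (base f 1)
      (face_base f _) x) = (0 : HW S f 1) :=
    (cx_d S f 0 x).symm.trans hx
  have h := congrArg (S.map (ins f s hs 0) (base f 1) (base f 0) (ins_base f s hs 0)) hx'
  rw [Fin.sum_univ_two, map_add, map_zero, map_zsmul, map_zsmul,
    S.map_comp _ _ _ _ _ _ _ (𝟙 _) (ins_face_zero f s hs 0) (Category.id_comp _), S.map_id,
    S.map_comp _ _ _ _ _ _ _ (base f 0 ≫ sect f s hs) (ins_face_one f s hs)
      (by rw [Category.assoc, sect_base, Category.comp_id])] at h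
  simp only [Fin.val_zero, Fin.val_one, pow_zero, pow_one, one_smul, neg_one_zsmul] at h
  rw [← sub_eq_add_neg, sub_eq_zero] at h
  refine Eq.trans ?_ h.symm
  exact S.map_comp _ _ _ _ _ _ _ (base f 0 ≫ sect f s hs) rfl (by rw [Category.assoc, sect_base, Category.comp_id]) x

end Groth.L00.EtSection
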