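import Groth.Agent.L00.EtSection.Degenerate
import Groth.Agent.L00.EtSection.Homotopy
import Mathlib.Algebra.Homology.Embedding.ExtendHomology
import Mathlib.Algebra.Category.Grp.Zero

/-!
# The descent spectral sequence of a map with a section
-/

set_option autoImplicit false
set_option backward.isDefEq.respectTransparency.types false
set_option linter.style.haveILetI false

universe u

open CategoryTheory CategoryTheory.Limits AlgebraicGeometry
open scoped ZeroObject

noncomputable section

namespace Groth.L00.EtSection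

variable {X Y : Scheme.{u}} (S : Sys Y) (f : X ⟶ Y) (s : Y ⟶ X) (hs : s ≫ f = 𝟙 Y)

include s hs in
theorem isZero_homology_cx (m : ℕ) (hm : m ≠ 0) : IsZero ((cx S f).homology m) := by
  obtain ⟨m, rfl⟩ := Nat.exists_eq_succ_of_ne_zero hm
  refine HomologicalComplex.ExactAt.isZero_homology ?_
  rw [HomologicalComplex.exactAt_iff' _ m (m + 1) (m + 2) (by simp) (by simp), ShortComplex.ab_exact_iff]
  exact exists_of_d_zero S f s hs m

include s hs in
theorem nonempty_homology_cx_zero : Nonempty ((cx S f).homology 0 ≅ S.obj (𝟙 Y)) := by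
  let T : ShortComplex AddCommGrpCat.{u + 1} :=
    ShortComplex.mk (AddCommGrpCat.ofHom (aug S f)) ((cx S f).d 0 1) (by ext a; exact aug_d S f a)
  have hT : T.Exact := (ShortComplex.ab_exact_iff _).2 (exists_aug_of_d_zero S f s hs)
  haveI : Mono T.f := (AddCommGrpCat.mono_iff_injective _).2 (aug_injective S f s hs)
  haveI : IsIso ((cx S f).homologyπ 0) :=
    (cx S f).isIso_homologyπ 0 0 (by simp) ((cx S f).shape 0 0 (by simp))
  exact ⟨(asIso ((cx S f).homologyπ 0)).symm ≪≫
    IsLimit.conePointUniqueUpToIso ((cx S f).cyclesIsKernel 0 1 (by simp)) hT.fIsKernel⟩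

/-- The rows. -/
def row (S : ℕ → Sys Y) : ℤ → CochainComplex AddCommGrpCat.{u + 1} ℤ := fun q =>
  if 0 ≤ q then (cx (S q.toNat) f).extend ComplexShape.embeddingUpNat else 0

include s hs in
/-- The descent spectral sequence of a system of contravariant systems along a map with a section. -/
theorem exists_spectralSequence_sys (S : ℕ → Sys Y) (H : ℕ → AddCommGrpCat.{u + 1})
    (e : ∀ q, Nonempty ((S q).obj (𝟙 Y) ≅ H q)) :
    ∃ (E : CohomologicalSpectralSequence AddCommGrpCat.{u + 1} 1)
      (a : SpSeq.Abutment E (fun n : ℤ => if 0 ≤ n then H n.toNat else AddCommGrpCat.of PUnit.{u + 2})),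
      (∀ n, a.IsFinite n) ∧ SpSeq.IsBounded E ∧
      ∀ p q : ℤ, Nonempty ((E.page 1 le_rfl).X (p, q) ≅
        (if 0 ≤ p ∧ 0 ≤ q then HW (S q.toNat) f p.toNat else AddCommGrpCat.of PUnit.{u + 2})) := by
  classical
  have hzero : IsZero (AddCommGrpCat.of PUnit.{u + 2}) := AddCommGrpCat.isZero_of_subsingleton _
  have hneg : ∀ (q : ℤ), q < 0 → IsZero (row f S q) := fun q hq => by
    rw [row, if_neg (by omega)]
    exact isZero_zero _
  have hX : ∀ p q : ℤ, Nonempty ((row f S q).X p ≅
      (if 0 ≤ p ∧ 0 ≤ q then HW (S q.toNat) f p.toNat else AddCommGrpCat.of PUnit.{u + 2})) := by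
    intro p q
    by_cases hq : 0 ≤ q
    · by_cases hp : 0 ≤ p
      · rw [row, if_pos hq, if_pos ⟨hp, hq⟩]
        exact ⟨(cx (S q.toNat) f).extendXIso ComplexShape.embeddingUpNat
          (show ComplexShape.embeddingUpNat.f p.toNat = p by simp; omega)⟩
      · rw [row, if_pos hq, if_neg (fun h => hp h.1)]
        exact ⟨((cx (S q.toNat) f).isZero_extend_X ComplexShape.embeddingUpNat p
          (fun i h => hp (by simp at h; omega))).iso hzero⟩
    · rw [if_neg (fun h => hq h.2)]
      exact ⟨((HomologicalComplex.eval _ _ p).map_isZero (hneg q (by omega))).iso hzero⟩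
  have hA : ∀ p q : ℤ, p ≠ 0 → IsZero ((row f S q).homology p) := fun p q hp => by
    by_cases hq : 0 ≤ q
    · rw [row, if_pos hq]
      by_cases hp0 : 0 ≤ p
      · refine (isZero_homology_cx (S q.toNat) f s hs p.toNat (by omega)).of_iso ?_
        exact (cx (S q.toNat) f).extendHomologyIso ComplexShape.embeddingUpNat
          (show ComplexShape.embeddingUpNat.f p.toNat = p by simp; omega)
      · exact (((cx (S q.toNat) f).extend_exactAt ComplexShape.embeddingUpNat p
          (fun i h => hp0 (by simp at h; omega)))).isZero_homology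
    · exact (HomologicalComplex.homologyFunctor _ _ p).map_isZero (hneg q (by omega))
  have hB : ∀ q : ℤ, Nonempty ((row f S q).homology 0 ≅
      (if 0 ≤ q then H q.toNat else AddCommGrpCat.of PUnit.{u + 2})) := fun q => by
    by_cases hq : 0 ≤ q
    · rw [row, if_pos hq, if_pos hq]
      exact ⟨(cx (S q.toNat) f).extendHomologyIso ComplexShape.embeddingUpNat
          (show ComplexShape.embeddingUpNat.f 0 = 0 by simp) ≪≫
        (nonempty_homology_cx_zero (S q.toNat) f s hs).some ≪≫ (e q.toNat).some⟩
    · rw [if_neg hq]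
      exact ⟨((HomologicalComplex.homologyFunctor _ _ 0).map_isZero (hneg q (by omega))).iso hzero⟩
  have hC : ∀ p q : ℤ, p < 0 ∨ q < 0 → IsZero ((row f S q).X p) := fun p q h => by
    refine IsZero.of_iso ?_ (hX p q).some
    rw [if_neg (fun hh => by omega)]
    exact hzero
  obtain ⟨E, a, h1, h2, h3⟩ := exists_spectralSequence_rows (row f S)
    (fun n : ℤ => if 0 ≤ n then H n.toNat else AddCommGrpCat.of PUnit.{u + 2}) hA hB hC
  exact ⟨E, a, h1, h2, fun p q => ⟨(h3 p q).some ≪≫ (hX p q).some⟩⟩

end Groth.L00.EtSection
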