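import Groth.Agent.L27.LimCoh.StageSys
import Groth.Agent.L27.EtSite.Pull
import Groth.Agent.L28.AcyComp.Iso
import Groth.Agent.L00.EtSection.Rows

/-!
# The cohomology of the fibre powers of a map with a section
-/

set_option autoImplicit false
set_option backward.isDefEq.respectTransparency.types false
set_option linter.style.haveILetI false

universe u

open CategoryTheory CategoryTheory.Limits AlgebraicGeometry Opposite Simplicial

noncomputable section

namespace Groth.L00.EtSection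

attribute [local instance] Groth.L27.EtSite.preservesFiniteLimits_pull

variable {Y : Scheme.{u}} (F : EtCoh.Ab Y)

/-- Pullback between the cohomology of two schemes over the base. -/
def pullH {A B : Scheme.{u}} (g : A ⟶ B) (b : B ⟶ Y) (a : A ⟶ Y) (w : g ≫ b = a) (q : ℕ) :
    EtCoh.H B ((EtCoh.pull b).obj F) q →+ EtCoh.H A ((EtCoh.pull a).obj F) q :=
  EtCore.HpullVia g b a w F q

theorem pullH_comp {A B C : Scheme.{u}} (h : C ⟶ A) (g : A ⟶ B) (b : B ⟶ Y) (a : A ⟶ Y) (c : C ⟶ Y)
    (wg : g ≫ b = a) (wh : h ≫ a = c) (k : C ⟶ B) (wk : h ≫ g = k) (w : k ≫ b = c) (q : ℕ)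
    (e : EtCoh.H B ((EtCoh.pull b).obj F) q) :
    pullH F h a c wh q (pullH F g b a wg q e) = pullH F k b c w q e := by
  unfold pullH
  rw [Groth.L27.LimCoh.HpullVia_eq, Groth.L27.LimCoh.HpullVia_eq, Groth.L27.LimCoh.HpullVia_eq]
  have h1 := Groth.L27.LimCoh.HpullThen_comp h g wk ((EtCoh.pull b).obj F)
    (Groth.L27.LimCoh.stageψ F g b wg) (Groth.L27.LimCoh.stageψ F h a wh)
    (Groth.L27.LimCoh.stageψ F k b w) (Groth.L27.LimCoh.stageψ_comp F h g wk b a c wg wh w) q e
  simpa only [Groth.L27.LimCoh.stageψ, Equiv.symm_apply_apply] using h1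

theorem bijective_pullH_id {A : Scheme.{u}} (a : A ⟶ Y) (w : 𝟙 A ≫ a = a) (q : ℕ) :
    Function.Bijective (pullH F (𝟙 A) a a w q) := by
  have h1 := Groth.L28.AcyComp.bijective_Hpull (𝟙 A) ((EtCoh.pull a).obj F) q
  have h2 : Function.Bijective ((EtCoh.HF A q).map
      (((EtCore.pullComp (𝟙 A) a).symm ≪≫ EtCore.pullCongr w).app F).hom) :=
    ConcreteCategory.bijective_of_isIso _
  exact h2.comp h1

theorem pullH_id {A : Scheme.{u}} (a : A ⟶ Y) (w : 𝟙 A ≫ a = a) (q : ℕ) (e : EtCoh.H A ((EtCoh.pull a).obj F) q) :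
    pullH F (𝟙 A) a a w q e = e :=
  (bijective_pullH_id F a w q).1 (pullH_comp F (𝟙 A) (𝟙 A) a a a w w (𝟙 A) (Category.id_comp _) w q e)

/-- Etale cohomology of the inverse images of `F`. -/
def cohSys (q : ℕ) : Sys Y where
  obj a := AddCommGrpCat.of (EtCoh.H _ ((EtCoh.pull a).obj F) q)
  map g b a w := pullH F g b a w q
  map_comp h g b a c wg wh k wk w e := pullH_comp F h g b a c wg wh k wk w q e
  map_id a w e := pullH_id F a w q e

end Groth.L00.EtSection
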