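import Groth.Prelude.Def_SpSeq
import Mathlib.Algebra.Category.Grp.Abelian
import Mathlib.Algebra.Homology.SpectralSequence.Basic
import Mathlib.Algebra.Homology.ShortComplex.Ab
import Mathlib.Data.Int.Interval
import Mathlib.Order.Interval.Finset.Basic

/-!
# A spectral sequence degenerating on one column
-/

set_option autoImplicit false
set_option linter.style.haveILetI false

universe v u

open CategoryTheory CategoryTheory.Limits

noncomputable section

namespace Groth.L00.EtSection

variable {C : Type u} [Category.{v} C] [Abelian C]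

/-- Rows put together into a first page. -/
def firstPage (row : ℤ → CochainComplex C ℤ) :
    HomologicalComplex C (ComplexShape.up' (⟨1, 1 - 1⟩ : ℤ × ℤ)) where
  X pq := (row pq.2).X pq.1
  d i j := if h : i.2 = j.2 then (row i.2).d i.1 j.1 ≫ eqToHom (by rw [h]) else 0
  shape i j hij := by
    split_ifs with h
    · rw [(row i.2).shape _ _ (fun h' => hij ?_), zero_comp]
      simp only [ComplexShape.up_Rel] at h'
      exact Prod.ext h' (by simpa using h)
    · rfl
  d_comp_d' i j k _ _ := by
    obtain ⟨i1, i2⟩ := i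
    obtain ⟨j1, j2⟩ := j
    obtain ⟨k1, k2⟩ := k
    dsimp only
    split_ifs with h h'
    · subst h; subst h'
      simp
    all_goals simp

/-- The homology of the first page is the homology of a row. -/
def firstPageHomologyIso (row : ℤ → CochainComplex C ℤ) (p q : ℤ) :
    (firstPage row).homology (p, q) ≅ (row q).homology p :=
  ShortComplex.homologyMapIso ((firstPage row).isoSc' (p - 1, q) (p, q) (p + 1, q)
      (ComplexShape.prev_eq' _ (by simp)) (ComplexShape.next_eq' _ (by simp)) ≪≫
    (ShortComplex.isoMk (Iso.refl _) (Iso.refl _) (Iso.refl _)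
        (by simp [firstPage]; exact (Category.id_comp _).trans (Category.comp_id _).symm)
        (by simp [firstPage]; exact (Category.id_comp _).trans (Category.comp_id _).symm) :
      (firstPage row).sc' (p - 1, q) (p, q) (p + 1, q) ≅ (row q).sc' (p - 1) p (p + 1)) ≪≫
    ((row q).isoSc' (p - 1) p (p + 1) (by simp) (by simp)).symm)

/-- The later pages: no differentials. -/
def laterPage (A : ℤ × ℤ → C) (r : ℤ) : HomologicalComplex C (ComplexShape.up' (⟨r, 1 - r⟩ : ℤ × ℤ)) where
  X := A
  d _ _ := 0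

/-- Homology of a page without differentials. -/
def laterPageHomologyIso (A : ℤ × ℤ → C) (r : ℤ) (pq : ℤ × ℤ) : (laterPage A r).homology pq ≅ A pq :=
  ((ShortComplex.HomologyData.ofZeros ((laterPage A r).sc pq) rfl rfl).left.homologyIso)

/-- The pages. -/
def pages (P : HomologicalComplex C (ComplexShape.up' (⟨1, 1 - 1⟩ : ℤ × ℤ))) (A : ℤ × ℤ → C) (r : ℤ) :
    HomologicalComplex C (ComplexShape.up' (⟨r, 1 - r⟩ : ℤ × ℤ)) :=
  if h : r = 1 then h ▸ P else laterPage A r

theorem pages_one (P : HomologicalComplex C (ComplexShape.up' (⟨1, 1 - 1⟩ : ℤ × ℤ))) (A : ℤ × ℤ → C) :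
    pages P A 1 = P :=
  dif_pos rfl

theorem pages_of_ne (P : HomologicalComplex C (ComplexShape.up' (⟨1, 1 - 1⟩ : ℤ × ℤ))) (A : ℤ × ℤ → C) {r : ℤ}
    (h : r ≠ 1) : pages P A r = laterPage A r :=
  dif_neg h

theorem pages_two (P : HomologicalComplex C (ComplexShape.up' (⟨1, 1 - 1⟩ : ℤ × ℤ))) (A : ℤ × ℤ → C) :
    pages P A 2 = laterPage A 2 :=
  pages_of_ne P A (by decide)

/-- The spectral sequence of a first page with given homology, all later differentials being zero. -/
def degenerateSS (P : HomologicalComplex C (ComplexShape.up' (⟨1, 1 - 1⟩ : ℤ × ℤ))) (A : ℤ × ℤ → C)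
    (e : ∀ pq, P.homology pq ≅ A pq) : CohomologicalSpectralSequence C 1 where
  page r _ := pages P A r
  iso r r' pq hrr' hr :=
    if h : r = 1 then
      eqToIso (by subst h; rw [pages_one]) ≪≫ e pq ≪≫ eqToIso (by rw [pages_of_ne P A (show r' ≠ 1 by omega)]; rfl)
    else
      eqToIso (by rw [pages_of_ne P A h]) ≪≫ laterPageHomologyIso A r pq ≪≫
        eqToIso (by rw [pages_of_ne P A (show r' ≠ 1 by omega)]; rfl)

theorem stationaryAt_degenerateSS (P : HomologicalComplex C (ComplexShape.up' (⟨1, 1 - 1⟩ : ℤ × ℤ)))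
    (A : ℤ × ℤ → C) (e : ∀ pq, P.homology pq ≅ A pq) (pq : ℤ × ℤ) :
    SpSeq.StationaryAt (degenerateSS P A e) pq 2 := by
  refine ⟨by omega, fun r' h₀ h => ?_⟩
  have h1 : ∀ a b, (pages P A r').d a b = 0 := by
    rw [pages_of_ne P A (show r' ≠ 1 by omega)]
    intro a b
    rfl
  exact ⟨h1 _ _, h1 _ _⟩

theorem isZero_subquot_self {X : C} (Z : Subobject X) : IsZero (SpSeq.subquot Z Z le_rfl) := by
  unfold SpSeq.subquot
  haveI : Epi (Z.ofLE Z le_rfl) := by rw [Subobject.ofLE_refl]; infer_instance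
  exact isZero_cokernel_of_epi _

/-- The whole modulo zero. -/
def subquotTopBot (X : C) : SpSeq.subquot (⊤ : Subobject X) ⊥ bot_le ≅ X :=
  cokernelIsoOfEq (show (⊥ : Subobject X).ofLE ⊤ bot_le = 0 from by
    rw [← cancel_mono (⊤ : Subobject X).arrow, Subobject.ofLE_arrow, Subobject.bot_arrow, zero_comp]) ≪≫
    cokernelZeroIsoTarget ≪≫ asIso (⊤ : Subobject X).arrow

/-- The filtration with a single jump at zero. -/
def jump (X : C) (p : ℤ) : Subobject X := if p ≤ 0 then ⊤ else ⊥

theorem jump_anti (X : C) : Antitone (jump X) := fun a b hab => by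
  unfold jump
  split_ifs <;> simp_all <;> omega

theorem isZero_grPiece_jump (X : C) {p : ℤ} (hp : p ≠ 0) : IsZero (SpSeq.grPiece (jump X) (jump_anti X) p) := by
  have h : jump X (p + 1) = jump X p := by
    unfold jump
    split_ifs <;> first | rfl | omega
  have key : ∀ (Z B : Subobject X) (hle : B ≤ Z), B = Z → IsZero (SpSeq.subquot Z B hle) := by
    rintro Z B hle rfl
    exact isZero_subquot_self _
  exact key _ _ _ h

/-- The jump. -/
def grPieceJumpZero (X : C) : SpSeq.grPiece (jump X) (jump_anti X) 0 ≅ X :=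
  eqToIso (by
    have key : ∀ (Z B : Subobject X) (hle : B ≤ Z), Z = ⊤ → B = ⊥ →
        SpSeq.subquot Z B hle = SpSeq.subquot (⊤ : Subobject X) ⊥ bot_le := by
      rintro Z B hle rfl rfl
      rfl
    exact key _ _ _ (if_pos le_rfl) (if_neg (by omega))) ≪≫ subquotTopBot X

/-- Rows which are exact off degree zero give a spectral sequence abutting to their homology in degree zero. -/
theorem exists_spectralSequence_rows (row : ℤ → CochainComplex C ℤ) (H : ℤ → C)
    (hp : ∀ p q : ℤ, p ≠ 0 → IsZero ((row q).homology p))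
    (h0 : ∀ q : ℤ, Nonempty ((row q).homology 0 ≅ H q))
    (hb : ∀ p q : ℤ, p < 0 ∨ q < 0 → IsZero ((row q).X p)) :
    ∃ (E : CohomologicalSpectralSequence C 1) (a : SpSeq.Abutment E H),
      (∀ n, a.IsFinite n) ∧ SpSeq.IsBounded E ∧
      ∀ p q : ℤ, Nonempty ((E.page 1 le_rfl).X (p, q) ≅ (row q).X p) := by
  classical
  let A : ℤ × ℤ → C := fun pq => (row pq.2).homology pq.1
  let e : ∀ pq, (firstPage row).homology pq ≅ A pq := fun pq => firstPageHomologyIso row pq.1 pq.2
  let E := degenerateSS (firstPage row) A e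
  have hβ : ∀ pq : ℤ × ℤ, Nonempty ((E.page 2 (by omega)).X pq ≅
      SpSeq.grPiece (jump (H (pq.1 + pq.2))) (jump_anti _) pq.1) := fun pq => by
    have hX : (E.page 2 (by omega)).X pq = A pq := by
      show (pages (firstPage row) A 2).X pq = A pq
      rw [pages_two]
      rfl
    obtain ⟨p, q⟩ := pq
    refine ⟨eqToIso hX ≪≫ ?_⟩
    by_cases hne : p = 0
    · subst hne
      exact (h0 q).some ≪≫ eqToIso (by simp) ≪≫ (grPieceJumpZero _).symm
    · exact (hp p q hne).iso (isZero_grPiece_jump _ hne)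
  let a : SpSeq.Abutment E H :=
    { fil := fun n => jump (H n)
      anti := fun n => jump_anti (H n)
      rk := fun _ => 2
      stat := stationaryAt_degenerateSS (firstPage row) A e
      β := fun pq => (hβ pq).some }
  have hpage : ∀ pq : ℤ × ℤ, (E.page 1 le_rfl).X pq = (row pq.2).X pq.1 := fun pq => by
    show (pages (firstPage row) A 1).X pq = _
    rw [pages_one]
    rfl
  refine ⟨E, a, fun n => ⟨⟨0, show jump (H n) 0 = ⊤ from if_pos le_rfl⟩, ⟨1, show jump (H n) 1 = ⊥ from if_neg (by omega)⟩⟩, fun n => ?_, fun p q => ⟨eqToIso (hpage (p, q))⟩⟩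
  refine (Set.finite_Icc (0 : ℤ) n).subset fun p hp' => ?_
  by_contra hcon
  rw [Set.mem_Icc] at hcon
  exact hp' (((hb p (n - p) (by omega))).of_iso (eqToIso (hpage (p, n - p))))

end Groth.L00.EtSection
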